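import Mathlib
import Cfsg.Prelude.Def_Classical
import Cfsg.Prelude.Def_KGroupFacts
import Cfsg.Agent.Lib.Helper16.SpinG2
import Cfsg.Agent.Lib.Lead.SPN.Defs
import Cfsg.Agent.Lib.Lead.SPN.Defs2
import Cfsg.Agent.Lib.Lead.STB.Defs
import Cfsg.Agent.Lib.Lead.STB.Defs2
import Cfsg.Agent.Lib.Helper12.OMB.Defs

/-!
# Project SPB (designer helper3): the spin group `Spin_{2l+1}(F)` by the Clifford algebra — companion of the lead's STB for S2094 (10u).  DEFINITIONS.

Port of the lead's SPN (`Cfsg.Agent.Lib.Lead.SPN`, the plus type) to the form `Q(v) = v₀² + Σ_i v (inl i) * v (inr i)` (`Cfsg.quadFormOdd`) and the lead's `SysB`.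

* `ClB l F = CliffordAlgebra (qfOdd l F)` (`qfOdd` of `Helper16.SpinG2`); generators `gamB a = ι (e_a)` (`a : Fin l ⊕ Fin l`; the CAR of SPN) and `gam0 = ι (e_0)`
  (`gam0 * gam0 = 1`, `gam0` anticommutes with every `gamB a`).
* `phi : Cl l F →ₐ[F] ClB l F`, the algebra homomorphism induced by the inclusion of the hyperbolic space; `phi (gam a) = gamB a`.  The LONG root elements of the spin group are
  the images `XCl a b t = phi (XC a b t)` of those of SPN (value `1 + t • (gamB a * gamB (ng b))`), so the type `D` relations come for free from SPN block C (`exists_cliffSys`).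
* the SHORT root elements `XCs a t = 1 + t • (gam0 * gamB a)`: the vector action `v ↦ g v g⁻¹` of this unit is the lead's Eichler matrix `TbS a t`.
* `CovB l F G`: a group `G` with a generating `SysB` and a homomorphism to `Ω_{2l+1}(F)` sending `x a b t ↦ TbL a b t`, `xs a t ↦ TbS a t` (matrices through `omatB` of helper12's
  `Helper12.OMB.Defs`); its spin element `zel = hs (inl 0) (-1)`.
-/

set_option autoImplicit false

namespace Cfsg.Agent.Lib.helper3.SPB

open Cfsg.Agent.Lib.helper15.St2 Cfsg.Agent.Lib.helper3.STC Cfsg.Agent.Lib.Lead.STD Cfsg.Agent.Lib.Lead.STB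
  Cfsg.Agent.Lib.Lead.SPN Cfsg.Agent.Lib.Helper16 Cfsg.Agent.Lib.Helper12.OMB

universe u v w

/-! ## the Clifford algebra -/

section Cliff

variable (l : ℕ) (F : Type u) [Field F]

/-- the Clifford algebra of the form `v₀² + Σ v (inl i) * v (inr i)` -/
abbrev ClB : Type u := CliffordAlgebra (qfOdd l F)

/-- the inclusion of the hyperbolic space into the odd dimensional space (extension by `0` at the coordinate `0`) -/
def incl : (Fin l ⊕ Fin l → F) →ₗ[F] (Unit ⊕ (Fin l ⊕ Fin l) → F) where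
  toFun v := Sum.elim (fun _ => 0) v
  map_add' v w := by
    funext k
    rcases k with k | k <;> simp
  map_smul' c v := by
    funext k
    rcases k with k | k <;> simp

variable {l F}

theorem incl_inl (v : Fin l ⊕ Fin l → F) (k : Unit) : incl l F v (Sum.inl k) = 0 := rfl

theorem incl_inr (v : Fin l ⊕ Fin l → F) (a : Fin l ⊕ Fin l) : incl l F v (Sum.inr a) = v a := rfl

theorem incl_single (a : Fin l ⊕ Fin l) : incl l F (Pi.single a 1) = Pi.single (Sum.inr a) 1 := by
  funext k
  rcases k with k | k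
  · rw [incl_inl, Pi.single_apply, if_neg (by simp)]
  · rw [incl_inr, Pi.single_apply, Pi.single_apply]
    by_cases h : k = a
    · rw [if_pos h, if_pos (by rw [h])]
    · rw [if_neg h, if_neg (by intro e; exact h (Sum.inr_injective e))]

theorem qfOdd_incl (v : Fin l ⊕ Fin l → F) : qfOdd l F (incl l F v) = qfPlus l F v := by
  rw [qfOdd_coe, qfPlus_coe]
  unfold Cfsg.quadFormOdd Cfsg.quadFormPlus
  rw [incl_inl]
  simp only [incl_inr]
  ring

variable (l F)

/-- the inclusion as an isometry -/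
def emb : qfPlus l F →qᵢ qfOdd l F :=
  { incl l F with map_app' := fun v => qfOdd_incl v }

/-- the induced homomorphism of Clifford algebras -/
noncomputable def phi : Cl l F →ₐ[F] ClB l F := CliffordAlgebra.map (emb l F)

variable {l F}

/-- the generators `γ_a = ι(e_a)` of `ClB` -/
noncomputable def gamB (a : Fin l ⊕ Fin l) : ClB l F := CliffordAlgebra.ι (qfOdd l F) (Pi.single (Sum.inr a) 1)

/-- the generator `γ_0 = ι(e_0)` of `ClB` -/
noncomputable def gam0 : ClB l F := CliffordAlgebra.ι (qfOdd l F) (Pi.single (Sum.inl ()) 1)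

theorem phi_gam (a : Fin l ⊕ Fin l) : phi l F (gam a) = gamB a := by
  unfold phi gam gamB
  rw [CliffordAlgebra.map_apply_ι]
  congr 1
  exact incl_single a

theorem gamB_sq (a : Fin l ⊕ Fin l) : gamB (F := F) a * gamB a = 0 := by
  rw [← phi_gam, ← map_mul, gam_sq, map_zero]

theorem gamB_car (a b : Fin l ⊕ Fin l) :
    gamB (F := F) a * gamB b + gamB b * gamB a = if a = ng b then 1 else 0 := by
  rw [← phi_gam, ← phi_gam, ← map_mul, ← map_mul, ← map_add, gam_car]
  split_ifs
  · rw [map_one]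
  · rw [map_zero]

theorem gamB_anti {a b : Fin l ⊕ Fin l} (h : a ≠ ng b) : gamB (F := F) a * gamB b = -(gamB b * gamB a) := by
  have := gamB_car (F := F) a b
  rw [if_neg h] at this
  exact eq_neg_of_add_eq_zero_left this

theorem qfOdd_single0 : qfOdd l F (Pi.single (Sum.inl ()) 1) = 1 := by
  rw [qfOdd_coe]
  unfold Cfsg.quadFormOdd
  rw [Pi.single_eq_same, one_pow]
  have : ∑ i : Fin l, (Pi.single (Sum.inl ()) (1 : F) : Unit ⊕ (Fin l ⊕ Fin l) → F) (Sum.inr (Sum.inl i)) *
      (Pi.single (Sum.inl ()) (1 : F) : Unit ⊕ (Fin l ⊕ Fin l) → F) (Sum.inr (Sum.inr i)) = 0 := by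
    apply Finset.sum_eq_zero
    intro i _
    rw [Pi.single_apply, if_neg (by simp), zero_mul]
  rw [this, add_zero]

theorem gam0_sq : gam0 (l := l) (F := F) * gam0 = 1 := by
  unfold gam0
  rw [CliffordAlgebra.ι_sq_scalar, qfOdd_single0, map_one]

theorem polar_single0 (a : Fin l ⊕ Fin l) :
    QuadraticMap.polar (qfOdd l F) (Pi.single (Sum.inl ()) 1) (Pi.single (Sum.inr a) 1) = 0 := by
  rw [qfOdd_coe, polar_odd]
  have h1 : (Pi.single (Sum.inr a) (1 : F) : Unit ⊕ (Fin l ⊕ Fin l) → F) (Sum.inl ()) = 0 := by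
    rw [Pi.single_apply, if_neg (by simp)]
  rw [h1, mul_zero, zero_add]
  apply Finset.sum_eq_zero
  intro i _
  have h2 : (Pi.single (Sum.inl ()) (1 : F) : Unit ⊕ (Fin l ⊕ Fin l) → F) (Sum.inr (Sum.inl i)) = 0 := by
    rw [Pi.single_apply, if_neg (by simp)]
  have h3 : (Pi.single (Sum.inl ()) (1 : F) : Unit ⊕ (Fin l ⊕ Fin l) → F) (Sum.inr (Sum.inr i)) = 0 := by
    rw [Pi.single_apply, if_neg (by simp)]
  rw [h2, h3, zero_mul, mul_zero, add_zero]

/-- `γ_0` anticommutes with every `γ_a` -/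
theorem gam0_anti (a : Fin l ⊕ Fin l) : gam0 (F := F) * gamB a = -(gamB a * gam0) := by
  have h := CliffordAlgebra.ι_mul_ι_add_swap (Q := qfOdd l F) (Pi.single (Sum.inl ()) 1) (Pi.single (Sum.inr a) 1)
  rw [polar_single0, map_zero] at h
  exact eq_neg_of_add_eq_zero_left h

theorem gamB_gam0 (a : Fin l ⊕ Fin l) : gamB (F := F) a * gam0 = -(gam0 * gamB a) := by
  rw [gam0_anti, neg_neg]

/-- `E_{ab} = γ_a γ_{-b}` in `ClB` -/
noncomputable def EB (a b : Fin l ⊕ Fin l) : ClB l F := gamB a * gamB (ng b)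

theorem phi_EE (a b : Fin l ⊕ Fin l) : phi l F (EE a b) = EB a b := by
  unfold EE EB
  rw [map_mul, phi_gam, phi_gam]

/-- `Y_a = γ_0 γ_a` -/
noncomputable def YY (a : Fin l ⊕ Fin l) : ClB l F := gam0 * gamB a

theorem YY_sq (a : Fin l ⊕ Fin l) : YY (F := F) a * YY a = 0 := by
  unfold YY
  calc gam0 (F := F) * gamB a * (gam0 * gamB a) = gam0 * (gamB a * gam0) * gamB a := by noncomm_ring
    _ = -(gam0 * gam0 * (gamB a * gamB a)) := by rw [gamB_gam0]; noncomm_ring
    _ = 0 := by rw [gamB_sq]; simp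

/-- the idempotent `γ_a γ_{-a}` of `ClB` -/
noncomputable def ppB (a : Fin l ⊕ Fin l) : ClB l F := gamB a * gamB (ng a)

/-- the long root elements of the spin group: the images of those of SPN -/
noncomputable def XCl (a b : Fin l ⊕ Fin l) (t : F) : (ClB l F)ˣ := Units.map (phi l F).toMonoidHom (XC a b t)

theorem XCl_val {a b : Fin l ⊕ Fin l} (hab : a ≠ b) (hab' : a ≠ ng b) (t : F) :
    ((XCl a b t : (ClB l F)ˣ) : ClB l F) = 1 + t • EB a b := by
  unfold XCl
  rw [Units.coe_map]
  show phi l F ((XC a b t : (Cl l F)ˣ) : Cl l F) = _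
  rw [XC_val hab hab', map_add, map_one, map_smul, phi_EE]

/-- the short root elements of the spin group: `1 + t γ_0 γ_a` -/
noncomputable def XCs (a : Fin l ⊕ Fin l) (t : F) : (ClB l F)ˣ := unitSqZero (YY a) (YY_sq a) t

theorem XCs_val (a : Fin l ⊕ Fin l) (t : F) : ((XCs a t : (ClB l F)ˣ) : ClB l F) = 1 + t • YY a := rfl

theorem XCs_inv_val (a : Fin l ⊕ Fin l) (t : F) : (((XCs a t)⁻¹ : (ClB l F)ˣ) : ClB l F) = 1 - t • YY a := rfl

end Cliff

/-- the word `ws a t = xs a t * xs (ng a) t⁻¹ * xs a t` in a family of short root elements (`SysB.ws S a t = wsOf S.xs a t` by `rfl`) -/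
def wsOf {K : Type*} [Field K] {ι : Type*} {G : Type*} [Group G] (xs : ι ⊕ ι → K → G) (a : ι ⊕ ι) (t : K) : G :=
  xs a t * xs (ng a) t⁻¹ * xs a t

/-- the word `hs a t = ws a t * ws a (-1)` in a family of short root elements (`SysB.hs S a t = hsOf S.xs a t` by `rfl`) -/
def hsOf {K : Type*} [Field K] {ι : Type*} {G : Type*} [Group G] (xs : ι ⊕ ι → K → G) (a : ι ⊕ ι) (t : K) : G :=
  wsOf xs a t * wsOf xs a (-1)

theorem ws_eq_wsOf {K : Type*} [Field K] {ι : Type*} {G : Type*} [Group G] (S : SysB K ι G) (a : ι ⊕ ι) (t : K) :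
    S.ws a t = wsOf S.xs a t := rfl

theorem hs_eq_hsOf {K : Type*} [Field K] {ι : Type*} {G : Type*} [Group G] (S : SysB K ι G) (a : ι ⊕ ι) (t : K) :
    S.hs a t = hsOf S.xs a t := rfl

/-! ## covering data -/

/-- A covering datum for `Ω_{2l+1}(F)`: a group `G` with a generating Steinberg system of type `B` and a homomorphism to `Ω_{2l+1}(F)` which sends the long root element `x a b t` to the
element with matrix `TbL a b t` and the short root element `xs a t` to the element with matrix `TbS a t`. -/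
structure CovB (l : ℕ) (F : Type u) [Field F] (G : Type v) [Group G] where
  hl : 3 ≤ l
  S : SysB F (Fin l) G
  gen : S.XQ (fun _ _ => True) (fun _ => True) = ⊤
  π : G →* ↥(Cfsg.Omega F (Cfsg.quadFormOdd l F))
  hπ : ∀ a b : Fin l ⊕ Fin l, a ≠ b → a ≠ ng b → ∀ t : F, omatB (π (S.x a b t)) = TbL a b t
  hπs : ∀ (a : Fin l ⊕ Fin l) (t : F), omatB (π (S.xs a t)) = TbS a t

namespace CovB

variable {l : ℕ} {F : Type u} [Field F] {G : Type v} [Group G] (C : CovB l F G)

/-- the index `0` -/
def i0 : Fin l := ⟨0, by have := C.hl; omega⟩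

/-- the index `1` -/
def i1 : Fin l := ⟨1, by have := C.hl; omega⟩

/-- the spin element `hs_0(-1)` -/
def zel : G := C.S.hs (Sum.inl C.i0) (-1)

/-- the composite `G → Ω → PΩ` -/
def sig : G →* Cfsg.POmega F (Cfsg.quadFormOdd l F) :=
  (QuotientGroup.mk' (Subgroup.center ↥(Cfsg.Omega F (Cfsg.quadFormOdd l F)))).comp C.π

/-- the representation of a covering datum -/
def rep : C.S.Rep (Fin l) where
  e := Function.Embedding.refl (Fin l)
  φ := oglB.comp C.π
  hφ := by
    intro a b hab hab' t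
    have h1 : Em (Function.Embedding.refl (Fin l)) a = a := by cases a <;> rfl
    have h2 : Em (Function.Embedding.refl (Fin l)) b = b := by cases b <;> rfl
    rw [h1, h2]
    exact C.hπ a b hab hab' t
  hφs := by
    intro a t
    have h1 : Em (Function.Embedding.refl (Fin l)) a = a := by cases a <;> rfl
    rw [h1]
    exact C.hπs a t

theorem rep_M (g : G) : C.rep.M g = omatB (C.π g) := rfl

theorem rep_Em (a : Fin l ⊕ Fin l) : Em C.rep.e a = a := by cases a <;> rfl

end CovB

/-! ## the interfaces to the companion projects (hypotheses of the rows that use them) -/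

/-- the statement of the main theorem of the lead's STB (`SysB.Rep.injective`) at the group `H` -/
def StbInjAt (l : ℕ) (F : Type u) [Field F] (H : Type v) [Group H] : Prop :=
  ∀ (S : SysB F (Fin l) H) (R : S.Rep (Fin l)), S.Spin → S.XQ (fun _ _ => True) (fun _ => True) = ⊤ → Function.Injective R.φ

/-- the statement of OMB (O-b): `Ω_{2l+1}(F)` carries a generating system of type `B` with the matrices `TbL`, `TbS` -/
def OmbSys (l : ℕ) (F : Type u) [Field F] : Prop :=
  ∃ S : SysB F (Fin l) ↥(Cfsg.Omega F (Cfsg.quadFormOdd l F)), S.XQ (fun _ _ => True) (fun _ => True) = ⊤ ∧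
    (∀ a b : Fin l ⊕ Fin l, a ≠ b → a ≠ ng b → ∀ t : F, omatB (S.x a b t) = TbL a b t) ∧
    ∀ (a : Fin l ⊕ Fin l) (t : F), omatB (S.xs a t) = TbS a t

/-- the statement of OMB (O-c): the centre of `Ω_{2l+1}(F)` is trivial -/
def OmbCenter (l : ℕ) (F : Type u) [Field F] : Prop :=
  Subgroup.center ↥(Cfsg.Omega F (Cfsg.quadFormOdd l F)) = ⊥

/-- the statement of CEB (`ceb_split`) at the group `G`: every central extension of a group with a generating `SysB`, a representation and spin element `≠ 1` splits -/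
def CebSplitAt (l : ℕ) (F : Type u) [Field F] (G : Type v) [Group G] : Prop :=
  ∀ (S : SysB F (Fin l) G) (_ : S.Rep (Fin l)), S.XQ (fun _ _ => True) (fun _ => True) = ⊤ → ∀ a : Fin l ⊕ Fin l, S.hs a (-1) ≠ 1 →
    ∀ (Γ : Type v) [Group Γ] (σ : Γ →* G), Function.Surjective σ → σ.ker ≤ Subgroup.center Γ →
      ∃ s : G →* Γ, ∀ g, σ (s g) = g

end Cfsg.Agent.Lib.helper3.SPB
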